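import Cfsg.Agent.H358.K547.PO8
import Cfsg.Agent.H358.K547.T3
import Cfsg.Prelude.Def_LieTypeChar
import Cfsg.Agent.S4629
import Cfsg.Agent.S4630
import Cfsg.Agent.S4631

/-!
# S4547, K547-QO-PO: `D3` for the orthogonal groups in odd characteristic (helper358)
-/

set_option autoImplicit false

namespace Cfsg.Agent.H358.K547

open Cfsg Cfsg.Agent.H821.K547

universe u

theorem two_ne_of_odd {F : Type*} [Field F] [Fintype F] (hF : Odd (Fintype.card F)) : (2 : F) ≠ 0 := by
  intro h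
  have h1 : ringChar F ∣ 2 := (ringChar.spec F 2).1 (by exact_mod_cast h)
  have h2 : ringChar F = 2 := ((Nat.dvd_prime Nat.prime_two).1 h1).resolve_left (by
    intro h3
    have h4 := ringChar.charP F
    rw [h3] at h4
    exact CharP.char_ne_one F 1 rfl)
  have h3 := FiniteField.even_card_of_char_two h2
  rw [← Nat.not_even_iff_odd] at hF
  exact hF (Nat.even_iff.2 h3)

theorem d3_pOmegaOdd {F : Type u} [Field F] [Fintype F] (hF : Odd (Fintype.card F)) {m : ℕ} (hm : 3 ≤ m) :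
    D3 (POmega F (quadFormOdd m F)) := by
  have hfin : Finite (isometryGroup F (quadFormOdd m F)) := inferInstance
  obtain ⟨E, hE, hE2⟩ := elem8_odd (two_ne_of_odd hF) hm
  exact d3_of_quot (QuotientGroup.mk' (Subgroup.center (Omega F (quadFormOdd m F)))) (QuotientGroup.mk'_surjective _)
    (fun P x => Cfsg.Agent.S4629.result hF m hm P x) E hE hE2

theorem d3_pOmegaPlus {F : Type u} [Field F] [Fintype F] (hF : Odd (Fintype.card F)) {m : ℕ} (hm : 4 ≤ m) :
    D3 (POmega F (quadFormPlus m F)) := by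
  have hfin : Finite (isometryGroup F (quadFormPlus m F)) := inferInstance
  obtain ⟨E, hE, hE2⟩ := elem8_plus (two_ne_of_odd hF) (m := m) (by omega)
  exact d3_of_quot (QuotientGroup.mk' (Subgroup.center (Omega F (quadFormPlus m F)))) (QuotientGroup.mk'_surjective _)
    (fun P x => Cfsg.Agent.S4630.result hF m (by omega) (Or.inr hm) P x) E hE hE2

theorem d3_pOmegaMinus {F : Type u} [Field F] [Fintype F] (hF : Odd (Fintype.card F)) {m : ℕ} (hm : 4 ≤ m) {a b : F}
    (hab : ∀ z₁ z₂ : F, z₁ ^ 2 + a * z₁ * z₂ + b * z₂ ^ 2 = 0 → z₁ = 0 ∧ z₂ = 0) :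
    D3 (POmega F (quadFormMinus (m - 1) F a b)) := by
  have hfin : Finite (isometryGroup F (quadFormMinus (m - 1) F a b)) := inferInstance
  obtain ⟨E, hE, hE2⟩ := elem8_minus (two_ne_of_odd hF) (m := m - 1) (by omega) a b
  exact d3_of_quot (QuotientGroup.mk' (Subgroup.center (Omega F (quadFormMinus (m - 1) F a b))))
    (QuotientGroup.mk'_surjective _) (fun P x => Cfsg.Agent.S4631.result hF m hm a b hab P x) E hE hE2

/-- the family `PΩ_{2m+1}(q)` of `IsKnownSimple'` -/
theorem d3_of_isPOmegaOdd {G : Type u} [Group G] (h : IsPOmegaOdd G) : D3 G := by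
  obtain ⟨F, _, _, m, hm, hF, ⟨e⟩⟩ := h
  exact d3_congr e.symm (d3_pOmegaOdd hF hm)

theorem odd_card_of_charP {F : Type*} [Field F] [Fintype F] {p : ℕ} [CharP F p] (hp : p ≠ 2) : Odd (Fintype.card F) := by
  rw [← Nat.not_even_iff_odd, Nat.even_iff]
  intro h
  have h2 := FiniteField.even_card_iff_char_two.2 h
  have h3 := ringChar.eq F p
  exact hp (h3.symm.trans h2)

theorem d3_of_isPOmegaOddChar {p : ℕ} {G : Type u} [Group G] (h : IsPOmegaOddChar p G) : D3 G := by
  obtain ⟨F, _, _, _, m, hm, hF, ⟨e⟩⟩ := h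
  exact d3_congr e.symm (d3_pOmegaOdd hF hm)

theorem d3_of_isPOmegaPlusChar {p : ℕ} (hp : p ≠ 2) {G : Type u} [Group G] (h : IsPOmegaPlusChar p G) : D3 G := by
  obtain ⟨F, _, _, _, m, hm, ⟨e⟩⟩ := h
  exact d3_congr e.symm (d3_pOmegaPlus (odd_card_of_charP hp) hm)

theorem d3_of_isPOmegaMinusChar {p : ℕ} (hp : p ≠ 2) {G : Type u} [Group G] (h : IsPOmegaMinusChar p G) : D3 G := by
  obtain ⟨F, _, _, _, m, a, b, hm, hab, ⟨e⟩⟩ := h
  exact d3_congr e.symm (d3_pOmegaMinus (odd_card_of_charP hp) hm hab)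

end Cfsg.Agent.H358.K547
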