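import Mathlib
import Cfsg.Prelude.Def_Classical

/-!
# S4547, K547-QO-PO: elementary abelian subgroups of order 8 in `PΩ` (helper358)
-/

set_option autoImplicit false

namespace Cfsg.Agent.H358.K547

open Cfsg Matrix
open scoped commutatorElement

/-- the abstract lemma: an elementary abelian group `A` of isometries with an automorphism of order 3 induced by `c` -/
theorem exists_elem8 {I A : Type*} [Group I] [CommGroup A] [Finite A] (μ : A →* I) (hμ : Function.Injective μ)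
    (hA : ∀ a : A, a ^ 2 = 1) (κ : A →* A) (hκ : ∀ a, κ (κ (κ a)) = a) (c : I) (hc : c ∈ commutator I)
    (hcμ : ∀ a, c * μ a * c⁻¹ = μ (κ a)) (h8 : 8 ≤ Nat.card ((MonoidHom.id A / κ).range)) :
    ∃ E : Subgroup (commutator I ⧸ Subgroup.center (commutator I)), Nat.card E = 8 ∧ ∀ x ∈ E, x ^ 2 = 1 := by
  have hmem : ∀ r : (MonoidHom.id A / κ).range, μ r ∈ commutator I := by
    rintro ⟨_, a, rfl⟩
    have e : μ ((MonoidHom.id A / κ) a) = ⁅μ a, c⁆ := by
      rw [MonoidHom.div_apply, MonoidHom.id_apply, map_div, ← hcμ, commutatorElement_def, div_eq_mul_inv]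
      group
    rw [e]
    exact Subgroup.commutator_mem_commutator (Subgroup.mem_top _) (Subgroup.mem_top _)
  let θ : (MonoidHom.id A / κ).range →* commutator I :=
    (μ.comp (MonoidHom.id A / κ).range.subtype).codRestrict (commutator I) hmem
  let ψ := (QuotientGroup.mk' (Subgroup.center (commutator I))).comp θ
  have hψ : Function.Injective ψ := by
    rw [injective_iff_map_eq_one]
    intro r hr
    have h1 : θ r ∈ Subgroup.center (commutator I) := (QuotientGroup.eq_one_iff _).1 hr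
    have h2 := Subgroup.mem_center_iff.1 h1 ⟨c, hc⟩
    have h3 : c * μ r = μ r * c := congrArg Subtype.val h2
    have h4 : μ (κ r) = μ r := by rw [← hcμ, h3, mul_inv_cancel_right]
    have h5 : κ (r : A) = r := hμ h4
    obtain ⟨a, ha⟩ := r.2
    have h6 : (r : A) * κ r * κ (κ r) = 1 := by
      rw [← ha, MonoidHom.div_apply, MonoidHom.id_apply, map_div, map_div, hκ]
      simp
    rw [h5, h5, ← pow_two, hA, one_mul] at h6
    exact Subtype.ext h6
  have hfin : Finite (MonoidHom.id A / κ).range := inferInstance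
  have hp : IsPGroup 2 (MonoidHom.id A / κ).range := fun r => ⟨1, Subtype.ext (by
    rw [pow_one]
    exact hA r)⟩
  obtain ⟨H, hH⟩ := Sylow.exists_subgroup_card_pow_prime_of_le_card Nat.prime_two hp (n := 3) (by omega)
  refine ⟨H.map ψ, ?_, ?_⟩
  · rw [Subgroup.card_map_of_injective hψ, hH]
    norm_num
  · rintro _ ⟨r, -, rfl⟩
    rw [← map_pow]
    have : r ^ 2 = 1 := Subtype.ext (hA r)
    rw [this, map_one]

/-! ### the three-cycle -/

section cyc

variable {m : ℕ} {a b c : Fin m}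

/-- the three-cycle -/
def cy (a b c : Fin m) : Equiv.Perm (Fin m) := ⁅Equiv.swap b c, Equiv.swap a b⁆

theorem cy_apply (hab : a ≠ b) (hac : a ≠ c) (hbc : b ≠ c) : (cy a b c)⁻¹ a = c ∧ (cy a b c)⁻¹ c = b ∧
    (cy a b c)⁻¹ b = a ∧ ∀ i, i ≠ a → i ≠ b → i ≠ c → (cy a b c)⁻¹ i = i := by
  have h : ∀ i, (cy a b c)⁻¹ i = Equiv.swap a b (Equiv.swap b c (Equiv.swap a b (Equiv.swap b c i))) := by
    intro i
    unfold cy
    rw [commutatorElement_inv, commutatorElement_def, Equiv.swap_inv, Equiv.swap_inv]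
    rfl
  refine ⟨?_, ?_, ?_, ?_⟩
  · rw [h, Equiv.swap_apply_of_ne_of_ne hab hac, Equiv.swap_apply_left, Equiv.swap_apply_left,
      Equiv.swap_apply_of_ne_of_ne hac.symm hbc.symm]
  · rw [h, Equiv.swap_apply_right, Equiv.swap_apply_right, Equiv.swap_apply_of_ne_of_ne hab hac, Equiv.swap_apply_left]
  · rw [h, Equiv.swap_apply_left, Equiv.swap_apply_of_ne_of_ne hac.symm hbc.symm, Equiv.swap_apply_right,
      Equiv.swap_apply_right]
  · intro i h1 h2 h3
    rw [h, Equiv.swap_apply_of_ne_of_ne h2 h3, Equiv.swap_apply_of_ne_of_ne h1 h2, Equiv.swap_apply_of_ne_of_ne h2 h3,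
      Equiv.swap_apply_of_ne_of_ne h1 h2]

theorem cy_cube (hab : a ≠ b) (hac : a ≠ c) (hbc : b ≠ c) (i : Fin m) :
    (cy a b c)⁻¹ ((cy a b c)⁻¹ ((cy a b c)⁻¹ i)) = i := by
  obtain ⟨h1, h2, h3, h4⟩ := cy_apply hab hac hbc
  by_cases ha : i = a
  · rw [ha, h1, h2, h3]
  by_cases hb : i = b
  · rw [hb, h3, h1, h2]
  by_cases hc : i = c
  · rw [hc, h2, h3, h1]
  rw [h4 i ha hb hc, h4 i ha hb hc, h4 i ha hb hc]

/-- precomposition -/
def kap (π : Equiv.Perm (Fin m)) (B : Type*) [CommGroup B] : (Fin m → B) →* (Fin m → B) where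
  toFun f := f ∘ π
  map_one' := rfl
  map_mul' _ _ := rfl

theorem card_range (hab : a ≠ b) (hac : a ≠ c) (hbc : b ≠ c) :
    8 ≤ Nat.card ((MonoidHom.id (Fin m → ℤˣ × ℤˣ) / kap (cy a b c)⁻¹ (ℤˣ × ℤˣ)).range) := by
  obtain ⟨h1, h2, h3, h4⟩ := cy_apply hab hac hbc
  let ev : (MonoidHom.id (Fin m → ℤˣ × ℤˣ) / kap (cy a b c)⁻¹ (ℤˣ × ℤˣ)).range → (ℤˣ × ℤˣ) × (ℤˣ × ℤˣ) :=
    fun f => ((f : Fin m → ℤˣ × ℤˣ) a, (f : Fin m → ℤˣ × ℤˣ) c)
  have hs : Function.Surjective ev := by
    rintro ⟨u, v⟩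
    refine ⟨⟨_, fun i => if i = a then u else if i = b then v⁻¹ else 1, rfl⟩, ?_⟩
    have e1 : ((MonoidHom.id (Fin m → ℤˣ × ℤˣ) / kap (cy a b c)⁻¹ (ℤˣ × ℤˣ))
        (fun i => if i = a then u else if i = b then v⁻¹ else 1)) a = u := by
      rw [MonoidHom.div_apply, Pi.div_apply, MonoidHom.id_apply]
      change _ / (if (cy a b c)⁻¹ a = a then u else if (cy a b c)⁻¹ a = b then v⁻¹ else 1) = _
      rw [h1, if_pos rfl, if_neg hac.symm, if_neg hbc.symm, div_one]
    have e2 : ((MonoidHom.id (Fin m → ℤˣ × ℤˣ) / kap (cy a b c)⁻¹ (ℤˣ × ℤˣ))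
        (fun i => if i = a then u else if i = b then v⁻¹ else 1)) c = v := by
      rw [MonoidHom.div_apply, Pi.div_apply, MonoidHom.id_apply]
      change _ / (if (cy a b c)⁻¹ c = a then u else if (cy a b c)⁻¹ c = b then v⁻¹ else 1) = _
      rw [h2, if_neg hac.symm, if_neg hbc.symm, if_neg hab.symm, if_pos rfl, one_div, inv_inv]
    exact Prod.ext e1 e2
  have h5 := Nat.card_le_card_of_surjective ev hs
  have h6 : Nat.card ((ℤˣ × ℤˣ) × (ℤˣ × ℤˣ)) = 16 := by
    rw [Nat.card_eq_fintype_card]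
    rfl
  omega

end cyc

/-! ### the isometries of the hyperbolic space -/

section hyp

variable {F : Type*} [Field F] {m : ℕ}

/-- first coefficient -/
def al (F : Type*) [Field F] (u : ℤˣ × ℤˣ) : F := (((u.1 : ℤ) : F) + ((u.2 : ℤ) : F)) / 2
/-- second coefficient -/
def be (F : Type*) [Field F] (u : ℤˣ × ℤˣ) : F := (((u.1 : ℤ) : F) - ((u.2 : ℤ) : F)) / 2

theorem al_mul (h2 : (2 : F) ≠ 0) (u v : ℤˣ × ℤˣ) : al F (u * v) = al F u * al F v + be F u * be F v := by
  simp only [al, be, Prod.fst_mul, Prod.snd_mul, Units.val_mul, Int.cast_mul]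
  field_simp
  ring

theorem be_mul (h2 : (2 : F) ≠ 0) (u v : ℤˣ × ℤˣ) : be F (u * v) = al F u * be F v + be F u * al F v := by
  simp only [al, be, Prod.fst_mul, Prod.snd_mul, Units.val_mul, Int.cast_mul]
  field_simp
  ring

theorem al_be (h : (2 : F) ≠ 0) (u : ℤˣ × ℤˣ) : al F u * be F u = 0 := by
  have h1 : ((u.1 : ℤ) : F) * ((u.1 : ℤ) : F) = 1 := by
    rw [← Int.cast_mul, ← Units.val_mul, Int.units_mul_self, Units.val_one, Int.cast_one]
  have h2 : ((u.2 : ℤ) : F) * ((u.2 : ℤ) : F) = 1 := by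
    rw [← Int.cast_mul, ← Units.val_mul, Int.units_mul_self, Units.val_one, Int.cast_one]
  simp only [al, be]
  field_simp
  linear_combination h1 - h2

theorem al_be' (h : (2 : F) ≠ 0) (u : ℤˣ × ℤˣ) : al F u * al F u + be F u * be F u = 1 := by
  have h1 : ((u.1 : ℤ) : F) * ((u.1 : ℤ) : F) = 1 := by
    rw [← Int.cast_mul, ← Units.val_mul, Int.units_mul_self, Units.val_one, Int.cast_one]
  have h2 : ((u.2 : ℤ) : F) * ((u.2 : ℤ) : F) = 1 := by
    rw [← Int.cast_mul, ← Units.val_mul, Int.units_mul_self, Units.val_one, Int.cast_one]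
  simp only [al, be]
  field_simp
  linear_combination 2 * h1 + 2 * h2

/-- the signed swaps -/
def mu0 (h2 : (2 : F) ≠ 0) (m : ℕ) : (Fin m → ℤˣ × ℤˣ) →* Matrix (Fin m ⊕ Fin m) (Fin m ⊕ Fin m) F where
  toFun f := fromBlocks (diagonal fun i => al F (f i)) (diagonal fun i => be F (f i)) (diagonal fun i => be F (f i))
    (diagonal fun i => al F (f i))
  map_one' := by
    have e1 : (fun i => al F ((1 : Fin m → ℤˣ × ℤˣ) i)) = 1 := by
      funext i
      change (((1 : ℤ) : F) + ((1 : ℤ) : F)) / 2 = 1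
      rw [Int.cast_one, one_add_one_eq_two, div_self h2]
    have e2 : (fun i => be F ((1 : Fin m → ℤˣ × ℤˣ) i)) = 0 := by
      funext i
      change (((1 : ℤ) : F) - ((1 : ℤ) : F)) / 2 = 0
      rw [sub_self, zero_div]
    rw [e1, e2, Pi.one_def, Pi.zero_def, diagonal_one, diagonal_zero, fromBlocks_one]
  map_mul' f g := by
    rw [fromBlocks_multiply]
    simp only [diagonal_mul_diagonal, diagonal_add, Pi.mul_apply, al_mul h2, be_mul h2]
    congr 1
    · congr 1
      funext i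
      ring
    · congr 1
      funext i
      ring

/-- the permutations -/
def nu0 (F : Type*) [Field F] (m : ℕ) : Equiv.Perm (Fin m) →* Matrix (Fin m ⊕ Fin m) (Fin m ⊕ Fin m) F where
  toFun σ := fromBlocks (permMatrixHom σ) 0 0 (permMatrixHom σ)
  map_one' := by rw [map_one, fromBlocks_one]
  map_mul' σ τ := by
    rw [fromBlocks_multiply]
    simp

theorem iso_of {Q : (Fin m ⊕ Fin m → F) → F} {g : GL (Fin m ⊕ Fin m) F}
    (h : ∀ v, Q ((g : Matrix (Fin m ⊕ Fin m) (Fin m ⊕ Fin m) F) *ᵥ v) = Q v) : g ∈ isometryGroup F Q :=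
  fun u _ => h u

/-- signed swaps as isometries -/
def mu (h2 : (2 : F) ≠ 0) (m : ℕ) : (Fin m → ℤˣ × ℤˣ) →* isometryGroup F (quadFormPlus m F) :=
  (mu0 h2 m).toHomUnits.codRestrict _ (fun f => iso_of fun v => by
    change quadFormPlus m F (fromBlocks (diagonal fun i => al F (f i)) (diagonal fun i => be F (f i))
      (diagonal fun i => be F (f i)) (diagonal fun i => al F (f i)) *ᵥ v) = _
    unfold quadFormPlus
    rw [fromBlocks_mulVec]
    refine Finset.sum_congr rfl fun i _ => ?_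
    simp only [Sum.elim_inl, Sum.elim_inr, Pi.add_apply, mulVec_diagonal, Function.comp_apply]
    have e1 := al_be h2 (f i)
    have e2 := al_be' h2 (f i)
    linear_combination (v (Sum.inl i) * v (Sum.inl i) + v (Sum.inr i) * v (Sum.inr i)) * e1 +
      (v (Sum.inl i) * v (Sum.inr i)) * e2)

/-- permutations as isometries -/
def nu (F : Type*) [Field F] (m : ℕ) : Equiv.Perm (Fin m) →* isometryGroup F (quadFormPlus m F) :=
  (nu0 F m).toHomUnits.codRestrict _ (fun σ => iso_of fun v => by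
    change quadFormPlus m F (fromBlocks (permMatrixHom σ) 0 0 (permMatrixHom σ) *ᵥ v) = _
    unfold quadFormPlus
    rw [fromBlocks_mulVec]
    simp only [Sum.elim_inl, Sum.elim_inr, permMatrixHom_apply, permMatrix_mulVec, zero_mulVec,
      add_zero, zero_add, Function.comp_apply]
    exact Equiv.sum_comp σ⁻¹ (fun i => v (Sum.inl i) * v (Sum.inr i)))

theorem nu_mu (h2 : (2 : F) ≠ 0) (σ : Equiv.Perm (Fin m)) (f : Fin m → ℤˣ × ℤˣ) :
    nu F m σ * mu h2 m f * (nu F m σ)⁻¹ = mu h2 m (kap σ⁻¹ _ f) := by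
  rw [mul_inv_eq_iff_eq_mul]
  apply Subtype.ext
  apply Units.ext
  change fromBlocks (permMatrixHom σ) 0 0 (permMatrixHom σ) * fromBlocks (diagonal fun i => al F (f i))
    (diagonal fun i => be F (f i)) (diagonal fun i => be F (f i)) (diagonal fun i => al F (f i)) =
    fromBlocks (diagonal fun i => al F (f (σ⁻¹ i))) (diagonal fun i => be F (f (σ⁻¹ i)))
    (diagonal fun i => be F (f (σ⁻¹ i))) (diagonal fun i => al F (f (σ⁻¹ i))) *
    fromBlocks (permMatrixHom σ) 0 0 (permMatrixHom σ)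
  have key : ∀ d : Fin m → F, permMatrixHom (R := F) σ * diagonal d =
      diagonal (fun i => d (σ⁻¹ i)) * permMatrixHom (R := F) σ := by
    intro d
    ext i j
    have e : (permMatrixHom (R := F) σ) i = Pi.single (σ⁻¹ i) (1 : F) := PEquiv.toMatrix_toPEquiv_apply _ _
    rw [mul_diagonal, diagonal_mul, e]
    by_cases h : σ⁻¹ i = j
    · rw [h, mul_comm]
    · rw [Pi.single_eq_of_ne (Ne.symm h), zero_mul, mul_zero]
  rw [fromBlocks_multiply, fromBlocks_multiply]
  simp only [key, Matrix.zero_mul, Matrix.mul_zero, add_zero, zero_add]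

theorem mu_inj (h2 : (2 : F) ≠ 0) : Function.Injective (mu h2 m) := by
  rw [injective_iff_map_eq_one]
  intro f hf
  have h0 : mu h2 m f = mu h2 m 1 := hf.trans (map_one _).symm
  have h1 : fromBlocks (diagonal fun i => al F (f i)) (diagonal fun i => be F (f i))
      (diagonal fun i => be F (f i)) (diagonal fun i => al F (f i)) =
      fromBlocks (diagonal fun i => al F ((1 : Fin m → ℤˣ × ℤˣ) i)) (diagonal fun i => be F ((1 : Fin m → ℤˣ × ℤˣ) i))
      (diagonal fun i => be F ((1 : Fin m → ℤˣ × ℤˣ) i)) (diagonal fun i => al F ((1 : Fin m → ℤˣ × ℤˣ) i)) :=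
    congrArg (fun g : isometryGroup F (quadFormPlus m F) => ((g : GL (Fin m ⊕ Fin m) F) :
      Matrix (Fin m ⊕ Fin m) (Fin m ⊕ Fin m) F)) h0
  rw [fromBlocks_inj] at h1
  obtain ⟨ha, hb, -, -⟩ := h1
  have hi : Function.Injective (fun z : ℤˣ => ((z : ℤ) : F)) := by
    intro y z hyz
    rcases Int.units_eq_one_or y with rfl | rfl <;> rcases Int.units_eq_one_or z with rfl | rfl
    · rfl
    · exfalso
      apply h2
      simp only [Units.val_one, Units.val_neg, Int.cast_neg, Int.cast_one] at hyz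
      linear_combination hyz
    · exfalso
      apply h2
      simp only [Units.val_one, Units.val_neg, Int.cast_neg, Int.cast_one] at hyz
      linear_combination -hyz
    · rfl
  funext i
  have ha' := congrFun (diagonal_injective ha) i
  have hb' := congrFun (diagonal_injective hb) i
  simp only [al, be, Pi.one_apply, Prod.fst_one, Prod.snd_one] at ha' hb'
  apply Prod.ext
  · apply hi
    simp only
    have : (((f i).1 : ℤ) : F) = (((f i).1 : ℤ) + ((f i).2 : ℤ) : F) / 2 + (((f i).1 : ℤ) - ((f i).2 : ℤ) : F) / 2 := by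
      field_simp
      ring
    rw [this, ha', hb']
    change _ = (((1 : ℤˣ) : ℤ) : F)
    field_simp
    ring
  · apply hi
    simp only
    have : (((f i).2 : ℤ) : F) = (((f i).1 : ℤ) + ((f i).2 : ℤ) : F) / 2 - (((f i).1 : ℤ) - ((f i).2 : ℤ) : F) / 2 := by
      field_simp
      ring
    rw [this, ha', hb']
    change _ = (((1 : ℤˣ) : ℤ) : F)
    field_simp
    ring

/-- the general statement -/
theorem elem8_of_inj (h2 : (2 : F) ≠ 0) (hm : 3 ≤ m) {I : Type*} [Group I]
    (j : isometryGroup F (quadFormPlus m F) →* I) (hj : Function.Injective j) :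
    ∃ E : Subgroup (commutator I ⧸ Subgroup.center (commutator I)), Nat.card E = 8 ∧ ∀ x ∈ E, x ^ 2 = 1 := by
  obtain ⟨a, b, c, hab, hac, hbc⟩ : ∃ a b c : Fin m, a ≠ b ∧ a ≠ c ∧ b ≠ c :=
    ⟨⟨0, by omega⟩, ⟨1, by omega⟩, ⟨2, by omega⟩, by simp, by simp, by simp⟩
  refine exists_elem8 (j.comp (mu h2 m)) (hj.comp (mu_inj h2)) ?_ (kap (cy a b c)⁻¹ _) ?_ (j (nu F m (cy a b c))) ?_ ?_
    (card_range hab hac hbc)
  · intro f
    funext i
    rw [Pi.pow_apply, Pi.one_apply]
    apply Prod.ext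
    · exact Int.units_sq _
    · exact Int.units_sq _
  · intro f
    funext i
    exact congrArg f (cy_cube hab hac hbc i)
  · unfold cy
    rw [map_commutatorElement, map_commutatorElement]
    exact Subgroup.commutator_mem_commutator (Subgroup.mem_top _) (Subgroup.mem_top _)
  · intro f
    rw [MonoidHom.comp_apply, MonoidHom.comp_apply, ← map_inv, ← map_mul, ← map_mul, nu_mu]

end hyp

/-! ### the three types -/

section types

variable {F : Type*} [Field F]

theorem elem8_plus (h2 : (2 : F) ≠ 0) {m : ℕ} (hm : 3 ≤ m) :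
    ∃ E : Subgroup (POmega F (quadFormPlus m F)), Nat.card E = 8 ∧ ∀ x ∈ E, x ^ 2 = 1 :=
  elem8_of_inj h2 hm (MonoidHom.id _) Function.injective_id

/-- block embedding -/
def jo (F : Type*) [Field F] (m : ℕ) : Matrix (Fin m ⊕ Fin m) (Fin m ⊕ Fin m) F →*
    Matrix (Unit ⊕ (Fin m ⊕ Fin m)) (Unit ⊕ (Fin m ⊕ Fin m)) F where
  toFun g := fromBlocks 1 0 0 g
  map_one' := by rw [fromBlocks_one]
  map_mul' g h := by rw [fromBlocks_multiply]; simp

/-- block embedding -/
def jm (F : Type*) [Field F] (m : ℕ) : Matrix (Fin m ⊕ Fin m) (Fin m ⊕ Fin m) F →*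
    Matrix ((Fin m ⊕ Fin m) ⊕ Fin 2) ((Fin m ⊕ Fin m) ⊕ Fin 2) F where
  toFun g := fromBlocks g 0 0 1
  map_one' := by rw [fromBlocks_one]
  map_mul' g h := by rw [fromBlocks_multiply]; simp

theorem mem_iso {ι : Type} [Fintype ι] [DecidableEq ι] {Q : (ι → F) → F} {g : GL ι F} :
    g ∈ isometryGroup F Q ↔ ∀ v, Q ((g : Matrix ι ι F) *ᵥ v) = Q v :=
  ⟨fun h v => h v v, fun h u _ => h u⟩

theorem odd_elim {m : ℕ} (x : Unit → F) (y : Fin m ⊕ Fin m → F) :
    quadFormOdd m F (Sum.elim x y) = x () ^ 2 + quadFormPlus m F y := rfl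

theorem odd_eq {m : ℕ} (u : Unit ⊕ (Fin m ⊕ Fin m) → F) :
    quadFormOdd m F u = (u ∘ Sum.inl) () ^ 2 + quadFormPlus m F (u ∘ Sum.inr) := rfl

theorem minus_elim {m : ℕ} (a b : F) (x : Fin 2 → F) (y : Fin m ⊕ Fin m → F) :
    quadFormMinus m F a b (Sum.elim y x) = quadFormPlus m F y + (x 0 ^ 2 + a * x 0 * x 1 + b * x 1 ^ 2) := rfl

theorem minus_eq {m : ℕ} (a b : F) (u : (Fin m ⊕ Fin m) ⊕ Fin 2 → F) :
    quadFormMinus m F a b u = quadFormPlus m F (u ∘ Sum.inl) +
      ((u ∘ Sum.inr) 0 ^ 2 + a * (u ∘ Sum.inr) 0 * (u ∘ Sum.inr) 1 + b * (u ∘ Sum.inr) 1 ^ 2) := rfl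

theorem jo_mem {m : ℕ} (g : GL (Fin m ⊕ Fin m) F) (hg : g ∈ isometryGroup F (quadFormPlus m F)) :
    Units.map (jo F m) g ∈ isometryGroup F (quadFormOdd m F) := by
  rw [mem_iso] at hg ⊢
  intro u
  rw [Units.coe_map]
  have e : (jo F m : Matrix _ _ F → Matrix _ _ F) (g : Matrix _ _ F) = fromBlocks 1 0 0 (g : Matrix _ _ F) := rfl
  rw [e, fromBlocks_mulVec, one_mulVec, zero_mulVec, zero_mulVec, add_zero, zero_add, odd_elim, hg, odd_eq]

theorem jm_mem {m : ℕ} (a b : F) (g : GL (Fin m ⊕ Fin m) F) (hg : g ∈ isometryGroup F (quadFormPlus m F)) :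
    Units.map (jm F m) g ∈ isometryGroup F (quadFormMinus m F a b) := by
  rw [mem_iso] at hg ⊢
  intro u
  rw [Units.coe_map]
  have e : (jm F m : Matrix _ _ F → Matrix _ _ F) (g : Matrix _ _ F) = fromBlocks (g : Matrix _ _ F) 0 0 1 := rfl
  rw [e, fromBlocks_mulVec, one_mulVec, zero_mulVec, zero_mulVec, add_zero, zero_add, minus_elim, hg, minus_eq]

/-- on isometries -/
def joI (F : Type*) [Field F] (m : ℕ) : isometryGroup F (quadFormPlus m F) →* isometryGroup F (quadFormOdd m F) :=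
  ((Units.map (jo F m)).comp (isometryGroup F (quadFormPlus m F)).subtype).codRestrict _ (fun g => jo_mem _ g.2)

/-- on isometries -/
def jmI (F : Type*) [Field F] (m : ℕ) (a b : F) :
    isometryGroup F (quadFormPlus m F) →* isometryGroup F (quadFormMinus m F a b) :=
  ((Units.map (jm F m)).comp (isometryGroup F (quadFormPlus m F)).subtype).codRestrict _ (fun g => jm_mem a b _ g.2)

theorem jo_inj (m : ℕ) : Function.Injective (jo F m) := fun _ _ h => (fromBlocks_inj.1 h).2.2.2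

theorem jm_inj (m : ℕ) : Function.Injective (jm F m) := fun _ _ h => (fromBlocks_inj.1 h).1

theorem joI_inj (m : ℕ) : Function.Injective (joI F m) := by
  intro g h hgh
  exact Subtype.ext (Units.map_injective (jo_inj m) (congrArg Subtype.val hgh))

theorem jmI_inj (m : ℕ) (a b : F) : Function.Injective (jmI F m a b) := by
  intro g h hgh
  exact Subtype.ext (Units.map_injective (jm_inj m) (congrArg Subtype.val hgh))

theorem elem8_odd (h2 : (2 : F) ≠ 0) {m : ℕ} (hm : 3 ≤ m) :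
    ∃ E : Subgroup (POmega F (quadFormOdd m F)), Nat.card E = 8 ∧ ∀ x ∈ E, x ^ 2 = 1 :=
  elem8_of_inj h2 hm (joI F m) (joI_inj m)

theorem elem8_minus (h2 : (2 : F) ≠ 0) {m : ℕ} (hm : 3 ≤ m) (a b : F) :
    ∃ E : Subgroup (POmega F (quadFormMinus m F a b)), Nat.card E = 8 ∧ ∀ x ∈ E, x ^ 2 = 1 :=
  elem8_of_inj h2 hm (jmI F m a b) (jmI_inj m a b)

end types

end Cfsg.Agent.H358.K547
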